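import Mathlib
import Groth.Prelude.Def_EtRam
import Groth.Agent.EtRamBC.Gen

/-! Extensions of a discretely valued field generated by a root of a monic polynomial with squarefree reduction. -/

set_option autoImplicit false

universe u

open Polynomial IsLocalRing

namespace Groth.Agent.EtRamASChar

variable {A K L : Type u} [CommRing A] [IsDomain A] [IsDiscreteValuationRing A] [Field K] [Algebra A K] [IsFractionRing A K]
  [Field L] [Algebra K L] [Algebra A L] [IsScalarTower A K L]

omit [IsFractionRing A K] in
lemma exists_dominates [IsFractionRing A K] : ∃ V : ValuationSubring L, EtRam.Dominates A (algebraMap A L) V := by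
  let φ : A →+* L := algebraMap A L
  have hφ : Function.Injective φ := by
    show Function.Injective (algebraMap A L)
    rw [IsScalarTower.algebraMap_eq A K L]
    exact (algebraMap K L).injective.comp (IsFractionRing.injective A K)
  haveI : IsLocalRing φ.range := IsLocalRing.of_surjective' φ.rangeRestrict φ.rangeRestrict_surjective
  obtain ⟨W, hle, hloc⟩ := (LocalSubring.mk φ.range).exists_le_valuationSubring
  have hmem : ∀ a, φ a ∈ W := fun a => hle ⟨a, rfl⟩
  refine ⟨W, hmem, fun a ha => ?_⟩
  refine (W.valuation_lt_one_iff ⟨_, hmem a⟩).mp fun hu => ?_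
  obtain ⟨⟨_, e, rfl⟩, he⟩ := isUnit_iff_exists_inv.mp (hloc.map_nonunit (⟨φ a, _, rfl⟩ : φ.range) hu)
  have he' : φ (a * e) = φ 1 := by rw [map_mul, map_one]; exact congrArg Subtype.val he
  exact ha (IsUnit.of_mul_eq_one e (hφ he'))

variable (f : A[X]) (y : L)

lemma root_mem (hf : f.Monic) (hy : aeval y f = 0) (V : ValuationSubring L) (hV : EtRam.Dominates A (algebraMap A L) V) : y ∈ V := by
  let c : A →+* V := RingHom.codRestrict (algebraMap A L) V hV.1
  obtain ⟨w, hw⟩ := (IsIntegrallyClosed.isIntegral_iff (R := V) (x := y)).mp ⟨f.map c, hf.map c, by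
    rw [eval₂_map, show (algebraMap V L).comp c = algebraMap A L from RingHom.ext fun _ => rfl]
    exact hy⟩
  rw [← hw]; exact w.2

lemma aeval_mem (hf : f.Monic) (hy : aeval y f = 0) (V : ValuationSubring L) (hV : EtRam.Dominates A (algebraMap A L) V)
    (t : A[X]) : aeval y t ∈ V := by
  rw [aeval_eq_sum_range]
  exact sum_mem fun i _ => by rw [Algebra.smul_def]; exact mul_mem (hV.1 _) (pow_mem (root_mem f y hf hy V hV) _)

lemma exists_div (hgen : ∀ x : L, ∃ q : K[X], aeval y q = x) (x : L) :
    ∃ s t : A[X], aeval y t ≠ 0 ∧ x * aeval y t = aeval y s := by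
  obtain ⟨q, rfl⟩ := hgen x
  obtain ⟨b, hb⟩ := IsLocalization.integerNormalization_map_to_map (nonZeroDivisors A) q
  refine ⟨IsLocalization.integerNormalization (nonZeroDivisors A) q, C (b : A), ?_, ?_⟩
  · rw [aeval_C, IsScalarTower.algebraMap_apply A K L, map_ne_zero_iff _ (algebraMap K L).injective]
    exact IsFractionRing.to_map_ne_zero_of_mem_nonZeroDivisors b.2
  · rw [← aeval_map_algebraMap K y (IsLocalization.integerNormalization (nonZeroDivisors A) q), hb,
      show (b : A) • q = C (algebraMap A K b) * q by rw [← smul_eq_C_mul, IsScalarTower.algebraMap_smul],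
      map_mul, aeval_C, aeval_C, ← IsScalarTower.algebraMap_apply A K L, mul_comm]

lemma gen (hf : f.Monic) (hsq : Squarefree (f.map (residue A))) (hy : aeval y f = 0) (π : A) (hπ : maximalIdeal A = Ideal.span {π})
    (hgen : ∀ x : L, ∃ q : K[X], aeval y q = x) (V : ValuationSubring L) (hV : EtRam.Dominates A (algebraMap A L) V) :
    letI : Algebra A V := (RingHom.codRestrict (algebraMap A L) V hV.1).toAlgebra
    ∀ [IsLocalHom (algebraMap A V)], EtRam.IsWeaklyUnramified A V ∧
      aeval (residue V ⟨y, root_mem f y hf hy V hV⟩) (f.map (residue A)) = 0 ∧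
      Algebra.adjoin (ResidueField A) {residue V ⟨y, root_mem f y hf hy V hV⟩} = ⊤ := by
  letI : Algebra A V := (RingHom.codRestrict (algebraMap A L) V hV.1).toAlgebra
  intro _
  have hπ' : Irreducible π := (IsDiscreteValuationRing.irreducible_iff_uniformizer π).mpr hπ
  set yv : V := ⟨y, root_mem f y hf hy V hV⟩
  have hco : ∀ t : A[X], ((aeval yv t : V) : L) = aeval y t := fun t => by
    induction t using Polynomial.induction_on' with
    | add p q hp hq => rw [map_add, map_add, ← hp, ← hq]; rfl
    | monomial n c => rw [aeval_monomial, aeval_monomial]; rfl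
  have hres : ∀ t : A[X], residue V (aeval yv t) = aeval (residue V yv) (t.map (residue A)) := fun t => by
    induction t using Polynomial.induction_on' with
    | add p q hp hq => simp [hp, hq]
    | monomial n c => rw [aeval_monomial, Polynomial.map_monomial, aeval_monomial, map_mul, map_pow]; rfl
  have hfb : aeval (residue V yv) (f.map (residue A)) = 0 := by
    rw [← hres, show aeval yv f = 0 from Subtype.ext ((hco f).trans hy), map_zero]
  have hfb0 : f.map (residue A) ≠ 0 := (hf.map _).ne_zero
  haveI : IsReduced (AdjoinRoot (f.map (residue A))) := by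
    show IsReduced ((ResidueField A)[X] ⧸ Ideal.span {f.map (residue A)})
    rw [← Ideal.isRadical_iff_quotient_reduced, ← isRadical_iff_span_singleton]
    exact hsq.isRadical
  haveI : Module.Finite (ResidueField A) (AdjoinRoot (f.map (residue A))) := (AdjoinRoot.powerBasis hfb0).finite
  haveI : IsArtinianRing (AdjoinRoot (f.map (residue A))) := IsArtinianRing.of_finite (ResidueField A) _
  haveI : Ring.KrullDimLE 0 (AdjoinRoot (f.map (residue A))) := inferInstance
  let red : A[X] →+* AdjoinRoot (f.map (residue A)) := (AdjoinRoot.mk _).comp (mapRingHom (residue A))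
  let ψ : AdjoinRoot (f.map (residue A)) →ₐ[ResidueField A] ResidueField V :=
    AdjoinRoot.liftAlgHom _ (Algebra.ofId _ _) (residue V yv) hfb
  have hred : Function.Surjective red :=
    AdjoinRoot.mk_surjective.comp (Polynomial.map_surjective (residue A) residue_surjective)
  have hψ : ∀ t, ψ.toRingHom (red t) = residue V ((aeval yv : A[X] →ₐ[A] V).toRingHom t) := fun t => by
    show ψ (AdjoinRoot.mk _ (t.map (residue A))) = residue V (aeval yv t)
    rw [AdjoinRoot.liftAlgHom_mk, hres]; rfl
  have hπV : ¬ IsUnit (algebraMap A V π) := fun h => hπ'.not_isUnit ((isUnit_map_iff (algebraMap A V) π).mp h)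
  have hAV : Function.Injective (algebraMap A V) := fun a b hab => by
    have h := congrArg Subtype.val hab
    have hinj : Function.Injective (algebraMap A L) := by
      rw [IsScalarTower.algebraMap_eq A K L]
      exact (algebraMap K L).injective.comp (IsFractionRing.injective A K)
    exact hinj h
  obtain ⟨hmax, hsurj⟩ := EtRamBC.mainGen (B := A) (aeval yv : A[X] →ₐ[A] V).toRingHom red hred ψ.toRingHom hψ (algebraMap A V π)
    hπV ((map_ne_zero_iff _ hAV).mpr hπ'.ne_zero) (fun t ht => by
      obtain ⟨q, hq⟩ := AdjoinRoot.mk_eq_zero.mp (show AdjoinRoot.mk (f.map (residue A)) (t.map (residue A)) = 0 from ht)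
      obtain ⟨q', rfl⟩ := Polynomial.map_surjective (residue A) residue_surjective q
      have h0 : ∀ i, π ∣ (t - f * q').coeff i := fun i => by
        rw [← Ideal.mem_span_singleton, ← hπ, ← residue_eq_zero_iff, ← coeff_map, Polynomial.map_sub, Polynomial.map_mul, hq, sub_self, coeff_zero]
      obtain ⟨t', ht'⟩ := (C_dvd_iff_dvd_coeff _ _).mpr h0
      refine ⟨t', ?_⟩
      show aeval yv t = algebraMap A V π * aeval yv t'
      rw [show t = f * q' + C π * t' by rw [← ht']; ring, map_add, map_mul, map_mul, aeval_C,
        show aeval yv f = 0 from Subtype.ext ((hco f).trans hy), zero_mul, zero_add])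
    hAV (fun t => by
      have hi : IsIntegral A y := ⟨f, hf, hy⟩
      have h1 : IsIntegral A (aeval y t) := adjoin_le_integralClosure hi (aeval_mem_adjoin_singleton A y)
      refine (isAlgebraic_algHom_iff (({ V.subtype with commutes' := fun _ => rfl } : V →ₐ[A] L)) Subtype.val_injective).mp ?_
      rw [show ({ V.subtype with commutes' := fun _ => rfl } : V →ₐ[A] L) ((aeval yv : A[X] →ₐ[A] V).toRingHom t) = aeval y t from hco t]
      exact h1.isAlgebraic)
    (fun w => by
      obtain ⟨s, t, ht, hst⟩ := exists_div (A := A) (K := K) y hgen (w : L)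
      exact ⟨s, t, fun h => ht (by rw [← hco]; exact congrArg Subtype.val h), Subtype.ext (by
        show (w : L) * ((aeval yv t : V) : L) = ((aeval yv s : V) : L)
        rw [hco, hco, hst])⟩)
    1 π hπ' (by rw [pow_one])
  refine ⟨?_, hfb, eq_top_iff.mpr fun x _ => ?_⟩
  · show (maximalIdeal A).map (algebraMap A V) = maximalIdeal V
    rw [hπ, Ideal.map_span, Set.image_singleton, hmax]
  · obtain ⟨r, rfl⟩ := hsurj x
    obtain ⟨q, rfl⟩ := AdjoinRoot.mk_surjective r
    show ψ (AdjoinRoot.mk _ q) ∈ _
    rw [AdjoinRoot.liftAlgHom_mk]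
    exact aeval_mem_adjoin_singleton _ _

/-- With irreducible reduction the valuation ring is unique. -/
lemma unique (hf : f.Monic) (hirr : Irreducible (f.map (residue A))) (hy : aeval y f = 0) (π : A) (hπ : maximalIdeal A = Ideal.span {π})
    (hgen : ∀ x : L, ∃ q : K[X], aeval y q = x) (V V' : ValuationSubring L) (hV : EtRam.Dominates A (algebraMap A L) V)
    (hV' : EtRam.Dominates A (algebraMap A L) V') : V = V' := by
  have hπ' : Irreducible π := (IsDiscreteValuationRing.irreducible_iff_uniformizer π).mpr hπ
  have hunit : ∀ (W : ValuationSubring L), EtRam.Dominates A (algebraMap A L) W → ∀ t : A[X], ¬ f.map (residue A) ∣ t.map (residue A) →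
      W.valuation (aeval y t) = 1 := by
    intro W hW t ht
    letI : Algebra A W := (RingHom.codRestrict (algebraMap A L) W hW.1).toAlgebra
    haveI : IsLocalHom (algebraMap A W) := ⟨fun a ha => by
      by_contra hna
      exact (hW.2 a ((mem_maximalIdeal a).mpr hna)).ne ((W.valuation_eq_one_iff _).mp ha)⟩
    obtain ⟨-, hfb, -⟩ := gen (K := K) f y hf hirr.squarefree hy π hπ hgen W hW
    set yw : W := ⟨y, root_mem f y hf hy W hW⟩
    have hu : IsUnit (aeval yw t : W) := by
      rw [← residue_ne_zero_iff_isUnit]
      intro h0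
      have hres : residue W (aeval yw t) = aeval (residue W yw) (t.map (residue A)) := by
        clear ht h0
        induction t using Polynomial.induction_on' with
        | add p q hp hq => simp [hp, hq]
        | monomial n c => rw [aeval_monomial, Polynomial.map_monomial, aeval_monomial, map_mul, map_pow]; rfl
      rw [hres] at h0
      refine ht ?_
      have hmin := minpoly.eq_of_irreducible_of_monic hirr hfb (hf.map _)
      rw [hmin]
      exact minpoly.dvd _ _ h0
    have := (W.valuation_eq_one_iff _).mp hu
    have hco : ((aeval yw t : W) : L) = aeval y t := by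
      clear ht hu this
      induction t using Polynomial.induction_on' with
      | add p q hp hq => rw [map_add, map_add, ← hp, ← hq]; rfl
      | monomial n c => rw [aeval_monomial, aeval_monomial]; rfl
    rwa [hco] at this
  have hpow : ∀ t : A[X], aeval y t ≠ 0 → ∃ j : ℕ, ∀ W : ValuationSubring L, EtRam.Dominates A (algebraMap A L) W →
      W.valuation (aeval y t) = W.valuation (algebraMap A L π) ^ j := by
    intro t ht
    have hrem : aeval y (t %ₘ f) = aeval y t := by
      conv_rhs => rw [← modByMonic_add_div t f, map_add, map_mul, hy, zero_mul, add_zero]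
    have h0 : t %ₘ f ≠ 0 := fun h => ht (by rw [← hrem, h, map_zero])
    obtain ⟨j, t₀, ht₀, he⟩ := WfDvdMonoid.max_power_factor h0 (Polynomial.prime_C_iff.mpr hπ'.prime).irreducible
    refine ⟨j, fun W hW => ?_⟩
    rw [← hrem, he, map_mul, map_pow, aeval_C, map_mul, map_pow, hunit W hW t₀ ?_, mul_one]
    intro hd
    have hne : t₀.map (residue A) ≠ 0 := fun h => ht₀ ((C_dvd_iff_dvd_coeff _ _).mpr fun i => by
      rw [← Ideal.mem_span_singleton, ← hπ, ← residue_eq_zero_iff, ← coeff_map, h, coeff_zero])
    have h1 := natDegree_le_of_dvd hd hne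
    have h2 : (t₀.map (residue A)).natDegree ≤ t₀.natDegree := natDegree_map_le
    rw [hf.natDegree_map] at h1
    have h3 : t₀.natDegree ≤ (t %ₘ f).natDegree :=
      natDegree_le_of_dvd ⟨C π ^ j, by rw [he, mul_comm]⟩ h0
    have h4 : (t %ₘ f).natDegree < f.natDegree := natDegree_modByMonic_lt t hf fun h => by
      rw [h, Polynomial.map_one] at hirr
      exact hirr.not_isUnit isUnit_one
    omega
  refine SetLike.ext fun x => ?_
  rcases eq_or_ne x 0 with rfl | hx
  · simp
  obtain ⟨s, t, ht, hst⟩ := exists_div (A := A) (K := K) y hgen x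
  have hs : aeval y s ≠ 0 := hst ▸ mul_ne_zero hx ht
  obtain ⟨i, hi⟩ := hpow s hs
  obtain ⟨j, hj⟩ := hpow t ht
  have key : ∀ W : ValuationSubring L, EtRam.Dominates A (algebraMap A L) W → (x ∈ W ↔ j ≤ i) := by
    intro W hW
    have hlt : W.valuation (algebraMap A L π) < 1 := hW.2 π (hπ ▸ Ideal.mem_span_singleton_self π)
    have hpos : 0 < W.valuation (algebraMap A L π) := by
      rw [zero_lt_iff, Valuation.ne_zero_iff, IsScalarTower.algebraMap_apply A K L, map_ne_zero_iff _ (algebraMap K L).injective,
        map_ne_zero_iff _ (IsFractionRing.injective A K)]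
      exact hπ'.ne_zero
    have e : W.valuation x * W.valuation (algebraMap A L π) ^ j = W.valuation (algebraMap A L π) ^ i := by
      rw [← hi W hW, ← hj W hW, ← map_mul, hst]
    rw [← W.valuation_le_one_iff, ← mul_le_mul_iff_left₀ (pow_pos hpos j), e, one_mul, pow_le_pow_iff_right_of_lt_one₀ hpos hlt]
  rw [key V hV, key V' hV']

end Groth.Agent.EtRamASChar
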